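import Groth.Agent.Lib.CycCut.Local
import Mathlib.RingTheory.OrderOfVanishing.Noetherian
import Mathlib.Data.ENat.BigOperators

/-!
The length of a cut stalk as a sum of orders along the branches.
-/

set_option autoImplicit false
universe u

open CategoryTheory AlgebraicGeometry IsLocalRing GrothLib.CycDiv GrothLib.LengthQuotX
open scoped Pointwise

namespace GrothLib.CycCut

variable {P : Scheme.{u}} [IsLocallyNoetherian P] {δ : P → ℤ}

/-- The coordinatewise summand. -/
noncomputable def summand (F : P.Modules) (p : P) (a : P.presheaf.stalk p) (ζ : P) : ℤ :=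
  open Classical in
  if h : ζ ⤳ p then
    ((Module.length (P.presheaf.stalk ζ) (F.presheaf.stalk ζ)).toNat : ℤ) *
      ((Ring.ord (Cyc.LocQuot p ζ h) (Ideal.Quotient.mk _ a)).toNat : ℤ)
  else 0

theorem length_cut (hδ : Cyc.IsDimFun P δ) (F : P.Modules) (hF : Coh.IsCoh F) (p : P) (k : ℤ) (hp : δ p = k)
    (a : P.presheaf.stalk p) (hsupp : ∀ ζ : P, ζ ⤳ p → Nontrivial (F.presheaf.stalk ζ) → δ ζ ≤ k + 1)
    (hm : ¬ IsAssociatedPrime (maximalIdeal (P.presheaf.stalk p)) (F.presheaf.stalk p))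
    (ha : ∀ (ζ : P) (h : ζ ⤳ p), δ ζ = k + 1 → Nontrivial (F.presheaf.stalk ζ) → a ∉ primeOf h)
    (S : Finset P) (hS : ∀ ζ : P, ζ ∈ S ↔ (ζ ⤳ p ∧ δ ζ = k + 1 ∧ Nontrivial (F.presheaf.stalk ζ))) :
    ((Module.length (P.presheaf.stalk p)
      (F.presheaf.stalk p ⧸ a • (⊤ : Submodule (P.presheaf.stalk p) (F.presheaf.stalk p)))).toNat : ℤ) =
      ∑ ζ ∈ S, summand F p a ζ := by
  classical
  haveI := hF.1
  haveI : Module.Finite (P.presheaf.stalk p) (F.presheaf.stalk p) := GrothLib.QCoh.stalk_finite F hF p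
  set M := F.presheaf.stalk p
  -- points of the support
  have hpt : ∀ q ∈ Module.support (P.presheaf.stalk p) M, q.asIdeal ≠ maximalIdeal _ →
      ∃ (ζ : P) (h : ζ ⤳ p), primeOf h = q.asIdeal ∧ δ ζ = k + 1 ∧ Nontrivial (F.presheaf.stalk ζ) := by
    intro q hq hne
    obtain ⟨ζ, h, hζ⟩ := exists_point_of_prime q
    have hnt : Nontrivial (F.presheaf.stalk ζ) := by
      rw [← not_subsingleton_iff_nontrivial, ← subsingleton_localized_iff F h, not_subsingleton_iff_nontrivial]
      simp only [hζ]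
      exact Module.mem_support_iff.1 hq
    have hne' : ζ ≠ p := by
      rintro rfl
      exact hne (hζ.symm.trans (primeOf_self _))
    have := (hδ ζ p h hne').1
    have := hsupp ζ h hnt
    exact ⟨ζ, h, hζ, by omega, hnt⟩
  have h1 : Module.supportDim (P.presheaf.stalk p) M ≤ 1 := by
    refine Order.krullDim_le_one_iff.2 fun q => ?_
    by_cases hne : q.1.asIdeal = maximalIdeal _
    · exact Or.inr fun q' _ => (show q'.1.asIdeal ≤ q.1.asIdeal from
        hne ▸ IsLocalRing.le_maximalIdeal q'.1.2.ne_top)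
    · refine Or.inl fun q' hle => ?_
      obtain ⟨ζ, h, hζ, hd, -⟩ := hpt q.1 q.2 hne
      have hne' : q'.1.asIdeal ≠ maximalIdeal _ := fun e => hne
        (le_antisymm (IsLocalRing.le_maximalIdeal q.1.2.ne_top) (e.ge.trans hle))
      obtain ⟨ζ', h', hζ', hd', -⟩ := hpt q'.1 q'.2 hne'
      have hsp : ζ' ⤳ ζ := specializes_of_primeOf_le h' h (by rw [hζ, hζ']; exact hle)
      obtain rfl : ζ' = ζ := by
        by_contra hne''
        have := (hδ ζ' ζ hsp hne'').1
        omega
      show q.1.asIdeal ≤ q'.1.asIdeal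
      rw [← hζ, ← hζ']
  have haq : ∀ q ∈ Module.support (P.presheaf.stalk p) M, q.asIdeal ≠ maximalIdeal _ → a ∉ q.asIdeal := by
    intro q hq hne
    obtain ⟨ζ, h, hζ, hd, hnt⟩ := hpt q hq hne
    rw [← hζ]
    exact ha ζ h hd hnt
  have h0 : Module.supportDim (P.presheaf.stalk p) (M ⧸ a • (⊤ : Submodule (P.presheaf.stalk p) M)) ≤ 0 := by
    have : Subsingleton (Module.support (P.presheaf.stalk p) (M ⧸ a • (⊤ : Submodule (P.presheaf.stalk p) M))) := by
      have key : ∀ q ∈ Module.support (P.presheaf.stalk p) (M ⧸ a • (⊤ : Submodule (P.presheaf.stalk p) M)),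
          q.asIdeal = maximalIdeal _ := by
        intro q hq
        rw [← Submodule.ideal_span_singleton_smul, Module.support_quotient] at hq
        by_contra hne
        exact haq q hq.1 hne (hq.2 (Ideal.mem_span_singleton_self a))
      exact ⟨fun x y => Subtype.ext (PrimeSpectrum.ext ((key _ x.2).trans (key _ y.2).symm))⟩
    exact Order.krullDim_nonpos_of_subsingleton
  have hker : LinearMap.ker (LinearMap.lsmul (P.presheaf.stalk p) M a) = ⊥ := by
    rw [Submodule.eq_bot_iff]
    intro m hm0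
    by_contra hne
    have hz : a ∈ {r : P.presheaf.stalk p | ∃ x : M, x ≠ 0 ∧ r • x = 0} := ⟨m, hne, hm0⟩
    rw [← biUnion_associatedPrimes_eq_zero_divisors] at hz
    obtain ⟨q, hq, haqq⟩ := Set.mem_iUnion₂.1 hz
    have hq' : IsAssociatedPrime q M := hq
    by_cases hqm : q = maximalIdeal _
    · exact hm (hqm ▸ hq')
    · refine haq ⟨q, hq'.isPrime⟩ ?_ hqm haqq
      rw [Module.mem_support_iff_of_finite]
      simpa [Submodule.annihilator_top] using hq'.annihilator_le
  have hT : ∀ q, q ∈ Module.support (P.presheaf.stalk p) M → (q.asIdeal ≠ maximalIdeal _ ↔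
      q ∈ S.attach.image fun ζ => (⟨primeOf ((hS ζ.1).1 ζ.2).1, inferInstance⟩ : PrimeSpectrum _)) := by
    intro q hq
    refine ⟨fun hne => ?_, ?_⟩
    · obtain ⟨ζ, h, hζ, hd, hnt⟩ := hpt q hq hne
      exact Finset.mem_image.2 ⟨⟨ζ, (hS ζ).2 ⟨h, hd, hnt⟩⟩, Finset.mem_attach _ _, PrimeSpectrum.ext hζ⟩
    · intro hmem hne
      obtain ⟨⟨ζ, hζS⟩, -, rfl⟩ := Finset.mem_image.1 hmem
      obtain ⟨hs, hd, -⟩ := (hS ζ).1 hζS
      have : ζ = p := point_eq_of_primeOf_eq hs specializes_rfl (hne.trans (primeOf_self p).symm)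
      subst this
      omega
  have hformula := length_quot_eq (M := M) a h1 h0
  rw [hker, Module.length_bot, zero_add, finsum_term_eq a hT, Finset.sum_image ?_] at hformula
  swap
  · intro x _ y _ e
    exact Subtype.ext (point_eq_of_primeOf_eq _ _ (congrArg PrimeSpectrum.asIdeal e))
  have hfin : Module.length (P.presheaf.stalk p) (M ⧸ a • (⊤ : Submodule (P.presheaf.stalk p) M)) ≠ ⊤ :=
    (GrothLib.FiniteLengthSupp.length_lt_top h0).ne
  rw [hformula] at hfin ⊢
  rw [ENat.toNat_sum fun x hx => ne_top_of_le_ne_top hfin (Finset.single_le_sum (fun _ _ => zero_le) hx),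
    ← Finset.sum_attach S]
  push_cast
  refine Finset.sum_congr rfl fun ζ _ => ?_
  rw [summand, dif_pos ((hS ζ.1).1 ζ.2).1, term, ENat.toNat_mul, length_eq_localized F ((hS ζ.1).1 ζ.2).1, mul_comm]
  push_cast
  rfl

end GrothLib.CycCut
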