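import Groth.Agent.Lib.CycDiv.Stalk
import Groth.Agent.Lib.LengthQuotX
import Groth.Agent.Lib.WeakAss.Basic
import Groth.Agent.Lib.QCoh.AvoidSub
import Mathlib.RingTheory.Ideal.AssociatedPrime.Finiteness

/-!
Cutting the stalk of a coherent module by one equation at a point of dimension one in the support.
-/

set_option autoImplicit false
universe u

open CategoryTheory AlgebraicGeometry IsLocalRing GrothLib.CycDiv
open scoped Pointwise

namespace GrothLib.CycCut

variable {P : Scheme.{u}}

/-- The stalk at a generization is the localization of the stalk. -/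
theorem exists_isLocalizedModule (F : P.Modules) [F.IsQuasicoherent] {p ζ : P} (h : ζ ⤳ p) :
    letI := Module.compHom (F.presheaf.stalk ζ) (P.presheaf.stalkSpecializes h).hom
    ∃ lam : F.presheaf.stalk p →ₗ[P.presheaf.stalk p] F.presheaf.stalk ζ,
      IsLocalizedModule (primeOf h).primeCompl lam := by
  letI := Module.compHom (F.presheaf.stalk ζ) (P.presheaf.stalkSpecializes h).hom
  have hgerm : ∀ {U : P.Opens} (hp : p ∈ U) (z : Γ(F, U)),
      (F.presheaf.stalkSpecializes h).hom (F.presheaf.germ U p hp z) = F.presheaf.germ U ζ (h.mem_open U.2 hp) z :=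
    fun hp z => TopCat.Presheaf.germ_stalkSpecializes_apply F.presheaf hp h z
  let lam : F.presheaf.stalk p →ₗ[P.presheaf.stalk p] F.presheaf.stalk ζ :=
    { toFun := (F.presheaf.stalkSpecializes h).hom
      map_add' := fun a b => map_add _ a b
      map_smul' := fun r m => by
        obtain ⟨U, hpU, r, rfl⟩ := TopCat.Presheaf.exists_germ_eq P.presheaf r
        obtain ⟨V, hpV, z, rfl⟩ := TopCat.Presheaf.exists_germ_eq F.presheaf m
        rw [← TopCat.Presheaf.germ_res_apply P.presheaf (homOfLE (inf_le_left : U ⊓ V ≤ U)) p ⟨hpU, hpV⟩ r,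
          ← TopCat.Presheaf.germ_res_apply F.presheaf (homOfLE (inf_le_right : U ⊓ V ≤ V)) p ⟨hpU, hpV⟩ z,
          ← GrothLib.WeakAss.germ_smul]
        erw [hgerm, GrothLib.WeakAss.germ_smul, hgerm]
        show _ = (P.presheaf.stalkSpecializes h).hom _ • (_ : F.presheaf.stalk ζ)
        erw [TopCat.Presheaf.germ_stalkSpecializes_apply] }
  obtain ⟨V, hV, hpV, -⟩ := exists_isAffineOpen_mem_and_subset (x := p) (U := ⊤) trivial
  have hζV : ζ ∈ V := h.mem_open V.2 hpV
  refine ⟨lam, ⟨fun r => ?_, fun m => ?_, fun {m₁ m₂} e => ?_⟩⟩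
  · have hu : IsUnit ((P.presheaf.stalkSpecializes h).hom r.1) := by
      by_contra hu
      exact r.2 ((mem_primeOf_iff h _).2 hu)
    refine (Module.End.isUnit_iff _).2 ⟨fun (a b : F.presheaf.stalk ζ) hab => ?_, fun (b : F.presheaf.stalk ζ) => ?_⟩
    · exact hu.smul_left_cancel.1 (show (P.presheaf.stalkSpecializes h).hom r.1 • a = (P.presheaf.stalkSpecializes h).hom r.1 • b from hab)
    · refine ⟨(hu.unit⁻¹ : (P.presheaf.stalk ζ)ˣ).1 • b, ?_⟩
      show (P.presheaf.stalkSpecializes h).hom r.1 • ((hu.unit⁻¹ : (P.presheaf.stalk ζ)ˣ).1 • b) = b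
      rw [smul_smul, IsUnit.mul_val_inv, one_smul]
  · obtain ⟨c, z, hc, hz⟩ := GrothLib.WeakAss.exists_smul_eq_germ hV hζV m
    have hc' : P.presheaf.germ V p hpV c ∈ (primeOf h).primeCompl := fun hm => by
      have hm' : P.presheaf.germ V p hpV c ∈ primeOf h := hm
      rw [mem_primeOf_iff] at hm'
      erw [TopCat.Presheaf.germ_stalkSpecializes_apply] at hm'
      exact hc hm'
    refine ⟨⟨F.presheaf.germ V p hpV z, ⟨_, hc'⟩⟩, ?_⟩
    show (P.presheaf.stalkSpecializes h).hom (P.presheaf.germ V p hpV c) • m = _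
    erw [TopCat.Presheaf.germ_stalkSpecializes_apply]
    exact hz.trans (hgerm hpV z).symm
  · obtain ⟨c, z, hc, hz⟩ := GrothLib.WeakAss.exists_smul_eq_germ hV hpV (m₁ - m₂)
    have h0 : F.presheaf.germ V ζ hζV z = 0 := by
      rw [← hgerm hpV z, ← hz]
      show lam (_ • (m₁ - m₂)) = 0
      rw [map_smul, map_sub, e, sub_self, smul_zero]
    obtain ⟨d, hd, hdz⟩ := (GrothLib.WeakAss.germ_eq_zero_iff hV hζV z).1 h0
    have hu : IsUnit (P.presheaf.germ V p hpV c) :=
      (Scheme.mem_basicOpen _ c p hpV).mp (GrothLib.WeakAss.notMem_primeAt_iff.mp hc)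
    have hd' : P.presheaf.germ V p hpV d ∈ (primeOf h).primeCompl := fun hm => by
      have hm' : P.presheaf.germ V p hpV d ∈ primeOf h := hm
      rw [mem_primeOf_iff] at hm'
      erw [TopCat.Presheaf.germ_stalkSpecializes_apply] at hm'
      exact hd hm'
    refine ⟨⟨_, hd'⟩, ?_⟩
    show P.presheaf.germ V p hpV d • m₁ = P.presheaf.germ V p hpV d • m₂
    rw [← sub_eq_zero, ← smul_sub, ← hu.smul_eq_zero, smul_smul, mul_comm, ← smul_smul, hz,
      ← GrothLib.WeakAss.germ_smul, hdz, map_zero]

theorem length_eq_localized (F : P.Modules) [F.IsQuasicoherent] {p ζ : P} (h : ζ ⤳ p) :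
    Module.length (Localization.AtPrime (primeOf h))
        (LocalizedModule (primeOf h).primeCompl (F.presheaf.stalk p)) =
      Module.length (P.presheaf.stalk ζ) (F.presheaf.stalk ζ) := by
  letI := Module.compHom (F.presheaf.stalk ζ) (P.presheaf.stalkSpecializes h).hom
  obtain ⟨lam, hlam⟩ := exists_isLocalizedModule F h
  letI := (P.presheaf.stalkSpecializes h).hom.toAlgebra
  haveI := isLocalization_stalkSpecializes h
  let e : Localization.AtPrime (primeOf h) ≃ₐ[P.presheaf.stalk p] P.presheaf.stalk ζ :=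
    IsLocalization.algEquiv (primeOf h).primeCompl _ _
  letI : Module (Localization.AtPrime (primeOf h)) (F.presheaf.stalk ζ) :=
    Module.compHom _ (e : Localization.AtPrime (primeOf h) →+* P.presheaf.stalk ζ)
  haveI : IsScalarTower (P.presheaf.stalk p) (Localization.AtPrime (primeOf h)) (F.presheaf.stalk ζ) :=
    IsScalarTower.of_algebraMap_smul fun r m => by
      show e (algebraMap _ _ r) • m = _
      rw [e.commutes]
      rfl
  let eq := (IsLocalizedModule.linearEquiv (primeOf h).primeCompl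
    (LocalizedModule.mkLinearMap (primeOf h).primeCompl (F.presheaf.stalk p)) lam).extendScalarsOfIsLocalization
    (primeOf h).primeCompl (Localization.AtPrime (primeOf h))
  rw [eq.length_eq]
  letI : Algebra (Localization.AtPrime (primeOf h)) (P.presheaf.stalk ζ) :=
    (e : Localization.AtPrime (primeOf h) →+* P.presheaf.stalk ζ).toAlgebra
  haveI : IsScalarTower (Localization.AtPrime (primeOf h)) (P.presheaf.stalk ζ) (F.presheaf.stalk ζ) :=
    IsScalarTower.of_algebraMap_smul fun _ _ => rfl
  exact Module.length_eq_of_surjective e.surjective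

theorem subsingleton_localized_iff (F : P.Modules) [F.IsQuasicoherent] {p ζ : P} (h : ζ ⤳ p) :
    Subsingleton (LocalizedModule (primeOf h).primeCompl (F.presheaf.stalk p)) ↔
      Subsingleton (F.presheaf.stalk ζ) := by
  rw [← Module.length_eq_zero_iff (R := Localization.AtPrime (primeOf h)), length_eq_localized F h,
    Module.length_eq_zero_iff]

theorem exists_point_of_prime {p : P} (q : PrimeSpectrum (P.presheaf.stalk p)) :
    ∃ (ζ : P) (h : ζ ⤳ p), primeOf h = q.asIdeal := by
  refine ⟨_, GrothLib.CycBasic.specializes_fromSpecStalk q, ?_⟩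
  rw [primeOf, GrothLib.CycBasic.ker_specMap]
  refine congrArg PrimeSpectrum.asIdeal ((P.fromSpecStalk p).isEmbedding.injective ?_)
  exact GrothLib.CycBasic.fromSpecStalk_comap_closedPoint _

theorem point_eq_of_primeOf_eq {p ζ ζ' : P} (h : ζ ⤳ p) (h' : ζ' ⤳ p) (e : primeOf h = primeOf h') : ζ = ζ' := by
  rw [← GrothLib.CycBasic.fromSpecStalk_comap_closedPoint h, ← GrothLib.CycBasic.fromSpecStalk_comap_closedPoint h']
  exact congrArg _ (PrimeSpectrum.ext (by rw [← GrothLib.CycBasic.ker_specMap, ← GrothLib.CycBasic.ker_specMap]; exact e))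

theorem specializes_of_primeOf_le {p ζ ζ' : P} (h : ζ ⤳ p) (h' : ζ' ⤳ p) (e : primeOf h ≤ primeOf h') : ζ ⤳ ζ' := by
  rw [← GrothLib.CycBasic.fromSpecStalk_comap_closedPoint h, ← GrothLib.CycBasic.fromSpecStalk_comap_closedPoint h']
  refine GrothLib.CycBasic.le_iff_specializes.1 ?_
  show PrimeSpectrum.asIdeal _ ≤ _
  rw [← GrothLib.CycBasic.ker_specMap, ← GrothLib.CycBasic.ker_specMap]
  exact e

theorem primeOf_self (p : P) : primeOf (specializes_rfl (x := p)) = maximalIdeal (P.presheaf.stalk p) := by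
  ext a
  rw [mem_primeOf_iff]
  erw [TopCat.Presheaf.stalkSpecializes_refl]
  rfl

end GrothLib.CycCut
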